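import Mathlib

/-!
# Invariants under a subgroup containing a decomposition group
-/

set_option autoImplicit false

universe u

open scoped Pointwise

namespace DecompInvLib

variable {G R : Type u} [Group G] [CommRing R] [MulSemiringAction G R]

theorem le_comap_comap_iterate (q : Ideal R) (k : G)
    (h : ∀ x, k • x ∈ q → x ∈ q) (x : R) : ∀ j : ℕ, k ^ j • x ∈ q → x ∈ q
  | 0 => fun hx => by rwa [pow_zero, one_smul] at hx
  | j + 1 => fun hx => le_comap_comap_iterate q k h x j (h _ (by rwa [smul_smul, ← pow_succ']))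

variable [Finite G] (H : Subgroup G)

theorem mem_subgroup_of_le (q : Ideal R) (hD : MulAction.stabilizer G q ≤ H) (k : G)
    (h : ∀ x, k • x ∈ q → x ∈ q) : k ∈ H := by
  refine hD (MulAction.mem_stabilizer_iff.2 ?_)
  have h' : ∀ x, x ∈ q → k • x ∈ q := fun x hx => by
    have hn : 0 < orderOf k := orderOf_pos k
    refine le_comap_comap_iterate q k h (k • x) (orderOf k - 1) ?_
    rw [smul_smul, ← pow_succ, Nat.sub_add_cancel hn, pow_orderOf_eq_one, one_smul]
    exact hx
  ext x
  rw [Ideal.mem_pointwise_smul_iff_inv_smul_mem]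
  refine ⟨fun hx => ?_, fun hx => h _ (by rwa [smul_inv_smul])⟩
  have := h' _ hx
  rwa [smul_inv_smul] at this

variable (q : Ideal R)

/-- The intersection of the conjugates of `q` under `H`. -/
def conjInf : Ideal R := ⨅ h : H, q.comap (MulSemiringAction.toRingHom G R (h : G))

theorem mem_conjInf {x : R} : x ∈ conjInf H q ↔ ∀ h ∈ H, h • x ∈ q := by
  simp [conjInf, Ideal.mem_iInf]

theorem smul_mem_conjInf {x : R} (hx : x ∈ conjInf H q) {h : G} (hh : h ∈ H) : h • x ∈ conjInf H q := by
  rw [mem_conjInf] at hx ⊢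
  intro k hk
  rw [smul_smul]
  exact hx _ (H.mul_mem hk hh)

theorem exists_invariant_separating [hq : q.IsPrime] (hD : MulAction.stabilizer G q ≤ H) :
    ∃ e : FixedPoints.subring R H, (e : R) ∉ q ∧ ∀ g, g ∉ H → g • (e : R) ∈ q := by
  classical
  have : Fintype G := Fintype.ofFinite G
  have hxg : ∀ g : G, g ∉ H → ∃ x : R, g • x ∈ q ∧ ∀ h ∈ H, h • x ∉ q := by
    intro g hg
    by_contra hcon
    push Not at hcon
    have hsub : (q.comap (MulSemiringAction.toRingHom G R g) : Set R) ⊆
        ⋃ h ∈ ((Finset.univ.filter (· ∈ H) : Finset G) : Set G),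
          (q.comap (MulSemiringAction.toRingHom G R h) : Set R) := fun x hx => by
      obtain ⟨h, hh, hx'⟩ := hcon x hx
      exact Set.mem_iUnion₂.2 ⟨h, by simpa using hh, hx'⟩
    obtain ⟨h, hh, hle⟩ := (Ideal.subset_union_prime 1 1 fun i _ _ _ =>
      Ideal.IsPrime.comap (MulSemiringAction.toRingHom G R i)).1 hsub
    have hh' : h ∈ H := by simpa using hh
    refine hg ?_
    have := mem_subgroup_of_le H q hD (g * h⁻¹) fun x hx => by
      have h1 := hle (x := h⁻¹ • x) (by
        rw [Ideal.mem_comap, MulSemiringAction.toRingHom_apply, smul_smul]; exact hx)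
      rwa [Ideal.mem_comap, MulSemiringAction.toRingHom_apply, smul_inv_smul] at h1
    simpa using H.mul_mem this hh'
  choose x hx hx' using hxg
  let f : R := ∏ g : {g : G // g ∉ H}, x g.1 g.2
  have : Fintype H := Fintype.ofFinite H
  let e : R := ∏ h : H, (h : G) • f
  have he : e ∈ FixedPoints.subring R H := fun k => by
    show (k : G) • e = e
    simp only [e, Finset.smul_prod', smul_smul]
    exact Fintype.prod_equiv (Equiv.mulLeft k) _ _ fun h => rfl
  refine ⟨⟨e, he⟩, fun hmem => ?_, fun g hg => ?_⟩
  · obtain ⟨h, -, hh⟩ := (hq.prod_mem_iff).1 hmem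
    simp only [f, Finset.smul_prod'] at hh
    obtain ⟨g, -, hg⟩ := (hq.prod_mem_iff).1 hh
    exact hx' g.1 g.2 h h.2 hg
  · show g • e ∈ q
    simp only [e, f, Finset.smul_prod']
    refine Ideal.prod_mem q (Finset.mem_univ (1 : H)) ?_
    refine Ideal.prod_mem q (Finset.mem_univ (⟨g, hg⟩ : {g : G // g ∉ H})) ?_
    rw [OneMemClass.coe_one, one_smul]
    exact hx g hg

/-- The sum of the translates of an `H`-invariant over the cosets. -/
noncomputable def translate (a : FixedPoints.subring R H) : G ⧸ H → R :=
  Quotient.lift (fun g : G => g • (a : R)) fun g g' hgg' => by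
    have h : g⁻¹ * g' ∈ H := QuotientGroup.leftRel_apply.1 hgg'
    have h1 : (g⁻¹ * g') • (a : R) = a := a.2 ⟨_, h⟩
    calc g • (a : R) = g • ((g⁻¹ * g') • (a : R)) := by rw [h1]
      _ = g' • (a : R) := by rw [smul_smul, mul_inv_cancel_left]

theorem translate_mk (a : FixedPoints.subring R H) (g : G) :
    translate H a (QuotientGroup.mk g) = g • (a : R) := rfl

/-- The relative trace. -/
noncomputable def trace (a : FixedPoints.subring R H) : FixedPoints.subring R G :=
  have : Fintype (G ⧸ H) := Fintype.ofFinite _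
  ⟨∑ c : G ⧸ H, translate H a c, fun g => by
    rw [Finset.smul_sum]
    refine Fintype.sum_equiv (MulAction.toPerm g) _ _ fun c => ?_
    induction c using QuotientGroup.induction_on with
    | H k =>
      show g • translate H a (QuotientGroup.mk k) = translate H a (QuotientGroup.mk (g * k))
      rw [translate_mk, translate_mk, smul_smul]⟩

theorem coe_trace [Fintype (G ⧸ H)] (a : FixedPoints.subring R H) :
    (trace H a : R) = ∑ c : G ⧸ H, translate H a c :=
  Finset.sum_congr (by ext; simp) fun _ _ => rfl

theorem trace_add (a b : FixedPoints.subring R H) : trace H (a + b) = trace H a + trace H b := by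
  have : Fintype (G ⧸ H) := Fintype.ofFinite _
  refine Subtype.ext ?_
  rw [Subring.coe_add, coe_trace, coe_trace, coe_trace, ← Finset.sum_add_distrib]
  refine Finset.sum_congr rfl fun c _ => ?_
  induction c using QuotientGroup.induction_on with
  | H k => rw [translate_mk, translate_mk, translate_mk, Subring.coe_add, smul_add]

variable {H} in
theorem trace_mul (hle : FixedPoints.subring R G ≤ FixedPoints.subring R H) (b : FixedPoints.subring R G)
    (a : FixedPoints.subring R H) : trace H (Subring.inclusion hle b * a) = b * trace H a := by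
  have : Fintype (G ⧸ H) := Fintype.ofFinite _
  refine Subtype.ext ?_
  rw [Subring.coe_mul, coe_trace, coe_trace, Finset.mul_sum]
  refine Finset.sum_congr rfl fun c _ => ?_
  induction c using QuotientGroup.induction_on with
  | H k =>
    rw [translate_mk, translate_mk, Subring.coe_mul, smul_mul']
    exact congrArg (· * _) (b.2 k)

theorem trace_zero : trace H (0 : FixedPoints.subring R H) = 0 := by
  have : Fintype (G ⧸ H) := Fintype.ofFinite _
  refine Subtype.ext ?_
  rw [coe_trace]
  refine Finset.sum_eq_zero fun c _ => ?_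
  induction c using QuotientGroup.induction_on with
  | H k => rw [translate_mk, Subring.coe_zero, smul_zero]

variable {H} in
theorem trace_mem (hle : FixedPoints.subring R G ≤ FixedPoints.subring R H) (p : Ideal (FixedPoints.subring R G))
    {y : FixedPoints.subring R H} (hy : y ∈ p.map (Subring.inclusion hle)) : trace H y ∈ p := by
  suffices h : ∀ a, trace H (y * a) ∈ p by simpa using h 1
  rw [Ideal.map] at hy
  induction hy using Submodule.span_induction with
  | mem z hz =>
    obtain ⟨b, hb, rfl⟩ := hz
    intro a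
    rw [trace_mul hle]
    exact Ideal.mul_mem_right _ _ hb
  | zero => intro a; rw [zero_mul, trace_zero]; exact zero_mem _
  | add z z' _ _ hz hz' => intro a; rw [add_mul, trace_add]; exact add_mem (hz a) (hz' a)
  | smul c z _ hz => intro a; rw [smul_eq_mul, mul_assoc, mul_left_comm]; exact hz _

theorem trace_mul_pow_sub_mem {e : FixedPoints.subring R H} (he : ∀ g, g ∉ H → g • (e : R) ∈ q)
    (a : FixedPoints.subring R H) (N : ℕ) :
    (trace H (a * e ^ N) : R) - (a : R) * (e : R) ^ N ∈ conjInf H q ^ N := by
  classical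
  have : Fintype (G ⧸ H) := Fintype.ofFinite _
  have h1 : translate H (a * e ^ N) (QuotientGroup.mk (1 : G)) = (a : R) * (e : R) ^ N := by
    rw [translate_mk, one_smul, Subring.coe_mul, SubmonoidClass.coe_pow]
  rw [coe_trace, ← Finset.add_sum_erase _ _ (Finset.mem_univ (QuotientGroup.mk (1 : G))), h1, add_sub_cancel_left]
  refine Ideal.sum_mem _ fun c hc => ?_
  induction c using QuotientGroup.induction_on with
  | H g =>
    have hg : g ∉ H := fun hg => (Finset.ne_of_mem_erase hc) (QuotientGroup.eq.2 (by simpa using hg))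
    rw [translate_mk, Subring.coe_mul, SubmonoidClass.coe_pow, smul_mul', smul_pow']
    refine Ideal.mul_mem_left _ _ (Ideal.pow_mem_pow ?_ N)
    rw [mem_conjInf]
    intro h hh
    rw [smul_smul]
    exact he _ fun hhg => hg (by simpa using H.mul_mem (H.inv_mem hh) hhg)

theorem conjInf_le_radical :
    conjInf H q ≤ ((q.comap (FixedPoints.subring R H).subtype).map (FixedPoints.subring R H).subtype).radical := by
  classical
  intro x hx
  have : Fintype H := Fintype.ofFinite H
  refine ⟨Fintype.card H, ?_⟩
  let P : Polynomial R := ∏ h : H, (Polynomial.X - Polynomial.C ((h : G) • x))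
  have hmonic : P.Monic := Polynomial.monic_prod_of_monic _ _ fun h _ => Polynomial.monic_X_sub_C _
  have hdeg : P.natDegree = Fintype.card H ∨ Subsingleton R := by
    rcases subsingleton_or_nontrivial R with h | h
    · exact Or.inr h
    · left
      rw [Polynomial.natDegree_prod_of_monic _ _ fun h _ => Polynomial.monic_X_sub_C _]
      simp
  rcases hdeg with hdeg | hsub
  swap
  · rw [Subsingleton.elim (x ^ Fintype.card H) 0]; exact zero_mem _
  have hinv : ∀ k : H, P.map (MulSemiringAction.toRingHom G R (k : G)) = P := fun k => by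
    simp only [P, Polynomial.map_prod, Polynomial.map_sub, Polynomial.map_X, Polynomial.map_C,
      MulSemiringAction.toRingHom_apply, smul_smul]
    exact Fintype.prod_equiv (Equiv.mulLeft k) _ _ fun h => rfl
  have hred : P.map (Ideal.Quotient.mk (conjInf H q)) = Polynomial.X ^ Fintype.card H := by
    simp only [P, Polynomial.map_prod, Polynomial.map_sub, Polynomial.map_X, Polynomial.map_C]
    rw [Finset.prod_congr rfl fun h _ => by
      rw [Ideal.Quotient.eq_zero_iff_mem.2 (smul_mem_conjInf H q hx h.2), map_zero, sub_zero]]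
    simp
  have heval : Polynomial.eval x P = 0 := by
    simp only [P, Polynomial.eval_prod]
    exact Finset.prod_eq_zero (Finset.mem_univ (1 : H)) (by simp)
  rw [Polynomial.eval_eq_sum_range, hdeg, Finset.sum_range_succ] at heval
  have hlast : P.coeff (Fintype.card H) = 1 := by rw [← hdeg]; exact hmonic
  rw [hlast, one_mul, add_comm, add_eq_zero_iff_eq_neg] at heval
  rw [heval]
  refine neg_mem (Ideal.sum_mem _ fun i hi => Ideal.mul_mem_right _ _ ?_)
  have hmem : P.coeff i ∈ FixedPoints.subring R H := fun k => by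
    show (k : G) • P.coeff i = P.coeff i
    conv_rhs => rw [← hinv k, Polynomial.coeff_map]
    rfl
  refine Ideal.mem_map_of_mem (FixedPoints.subring R H).subtype (x := ⟨P.coeff i, hmem⟩) ?_
  have h2 := congrArg (fun p => Polynomial.coeff p i) hred
  simp only [Polynomial.coeff_map, Polynomial.coeff_X_pow] at h2
  rw [if_neg (Finset.mem_range.1 hi).ne, Ideal.Quotient.eq_zero_iff_mem, mem_conjInf] at h2
  have h3 := h2 1 H.one_mem
  rwa [one_smul] at h3

variable [IsNoetherianRing (FixedPoints.subring R G)] [Module.Finite (FixedPoints.subring R G) R]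

theorem exists_pow_comap_le (hle : FixedPoints.subring R G ≤ FixedPoints.subring R H) (n : ℕ) :
    IsNoetherianRing (FixedPoints.subring R H) ∧ ∃ N : ℕ,
      (conjInf H q ^ N).comap (FixedPoints.subring R H).subtype ≤ q.comap (FixedPoints.subring R H).subtype ^ n := by
  let B := FixedPoints.subring R G
  let S := FixedPoints.subring R H
  have : IsNoetherian B R := isNoetherian_of_isNoetherianRing_of_finite B R
  letI : Algebra B S := (Subring.inclusion hle).toAlgebra
  haveI : IsScalarTower B S R := IsScalarTower.of_algebraMap_eq fun b => rfl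
  let lin : S →ₗ[B] R :=
    { toFun := fun s => (s : R)
      map_add' := fun _ _ => rfl
      map_smul' := fun _ _ => rfl }
  have hS : IsNoetherian B S := isNoetherian_of_injective lin Subtype.val_injective
  haveI hSr : IsNoetherianRing S := isNoetherian_of_tower B hS
  haveI : Module.Finite S R := Module.Finite.of_restrictScalars_finite B S R
  have : IsNoetherianRing R := isNoetherian_of_tower B (inferInstance : IsNoetherian B R)
  refine ⟨hSr, ?_⟩
  obtain ⟨c, hc⟩ := Ideal.exists_pow_inf_eq_pow_smul (q.comap S.subtype)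
    (LinearMap.range (Algebra.linearMap S R))
  obtain ⟨m, hm⟩ := Ideal.exists_pow_le_of_le_radical_of_fg (conjInf_le_radical H q) (IsNoetherian.noetherian _)
  refine ⟨m * (n + c), fun y hy => ?_⟩
  have h1 : (y : R) ∈ ((q.comap S.subtype) ^ (n + c) • ⊤ : Submodule S R) := by
    rw [Ideal.smul_top_eq_map, Submodule.restrictScalars_mem, Ideal.map_pow]
    rw [Ideal.mem_comap, pow_mul] at hy
    exact Ideal.pow_right_mono hm _ hy
  have h2 : (y : R) ∈ ((q.comap S.subtype) ^ (n + c) • ⊤ ⊓ LinearMap.range (Algebra.linearMap S R) : Submodule S R) :=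
    ⟨h1, y, rfl⟩
  rw [hc (n + c) (Nat.le_add_left c n), Nat.add_sub_cancel] at h2
  have h3 : (y : R) ∈ (q.comap S.subtype) ^ n • LinearMap.range (Algebra.linearMap S R) :=
    Submodule.smul_mono le_rfl inf_le_right h2
  rw [LinearMap.range_eq_map, ← Submodule.map_smul'', Submodule.mem_map] at h3
  obtain ⟨z, hz, hzy⟩ := h3
  rw [smul_eq_mul, Ideal.mul_top] at hz
  rwa [← (Subtype.val_injective (hzy : (z : R) = y))]

theorem main [q.IsPrime] (hD : MulAction.stabilizer G q ≤ H)
    (hle : FixedPoints.subring R G ≤ FixedPoints.subring R H) (n : ℕ) :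
    let q' : Ideal (FixedPoints.subring R H) := Ideal.comap (FixedPoints.subring R H).subtype q
    let φ := Localization.localRingHom (Ideal.comap (Subring.inclusion hle) q') q' (Subring.inclusion hle) rfl
    Function.Surjective ((Ideal.Quotient.mk (IsLocalRing.maximalIdeal (Localization.AtPrime q') ^ n)).comp φ) ∧
      Ideal.comap φ (IsLocalRing.maximalIdeal (Localization.AtPrime q') ^ n) =
        IsLocalRing.maximalIdeal (Localization.AtPrime (Ideal.comap (Subring.inclusion hle) q')) ^ n := by
  intro q' φ
  let p := Ideal.comap (Subring.inclusion hle) q'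
  obtain ⟨e, he, he'⟩ := exists_invariant_separating H q hD
  have hnoeth : IsNoetherianRing (FixedPoints.subring R H) := (exists_pow_comap_le H q hle 1).1
  let L := Localization.AtPrime q'
  let ι := algebraMap (FixedPoints.subring R H) L
  have hφ : ∀ b, φ (algebraMap _ (Localization.AtPrime p) b) = ι (Subring.inclusion hle b) := fun b =>
    Localization.localRingHom_to_map _ _ _ _ _
  -- the translates separate
  have hb : ∀ k, ∃ N : ℕ, ∀ a, Subring.inclusion hle (trace H (a * e ^ N)) - a * e ^ N ∈ q' ^ k := fun k => by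
    obtain ⟨-, N, hN⟩ := exists_pow_comap_le H q hle k
    exact ⟨N, fun a => hN (trace_mul_pow_sub_mem H q he' a N)⟩
  have hsurj : ∀ k, Function.Surjective ((Ideal.Quotient.mk (IsLocalRing.maximalIdeal L ^ k)).comp φ) := by
    intro k y
    obtain rfl | hk := Nat.eq_zero_or_pos k
    · obtain ⟨y, rfl⟩ := Ideal.Quotient.mk_surjective y
      exact ⟨0, Ideal.Quotient.eq.2 (by simp)⟩
    obtain ⟨N, hN⟩ := hb k
    let μ := (Ideal.Quotient.mk (IsLocalRing.maximalIdeal L ^ k)).comp φ
    have hcl : ∀ a, μ (algebraMap _ _ (trace H (a * e ^ N))) =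
        Ideal.Quotient.mk (IsLocalRing.maximalIdeal L ^ k) (ι (a * e ^ N)) := fun a => by
      rw [RingHom.comp_apply, hφ, Ideal.Quotient.eq, ← map_sub, ← Localization.AtPrime.map_eq_maximalIdeal,
        ← Ideal.map_pow]
      exact Ideal.mem_map_of_mem _ (hN a)
    have hsub : ∀ t : FixedPoints.subring R H, t ∉ q' → trace H (t * e ^ N) ∉ p := fun t ht hmem => by
      have h1 := sub_mem (show Subring.inclusion hle (trace H (t * e ^ N)) ∈ q' from hmem) (Ideal.pow_le_self hk.ne' (hN t) : _ ∈ q')
      rw [sub_sub_cancel] at h1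
      exact ((inferInstance : q'.IsPrime).mem_or_mem h1).elim ht
        fun h2 => he ((inferInstance : q'.IsPrime).mem_of_pow_mem _ h2)
    obtain ⟨y, rfl⟩ := Ideal.Quotient.mk_surjective y
    obtain ⟨⟨a, t⟩, rfl⟩ := IsLocalization.mk'_surjective q'.primeCompl y
    refine ⟨IsLocalization.mk' (Localization.AtPrime p) (trace H (a * e ^ N))
      (⟨trace H ((t : FixedPoints.subring R H) * e ^ N), hsub t t.2⟩ : p.primeCompl), ?_⟩
    have hu : IsUnit (μ (algebraMap _ _ (trace H ((t : FixedPoints.subring R H) * e ^ N)))) :=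
      (IsLocalization.map_units (Localization.AtPrime p) (⟨_, hsub t t.2⟩ : p.primeCompl)).map μ
    refine hu.mul_left_inj.1 ?_
    show μ _ * _ = Ideal.Quotient.mk _ (IsLocalization.mk' (Localization.AtPrime q') a t) * _
    rw [← map_mul]
    erw [IsLocalization.mk'_spec (Localization.AtPrime p) (trace H (a * e ^ N))
      (⟨trace H ((t : FixedPoints.subring R H) * e ^ N), hsub t t.2⟩ : p.primeCompl), hcl, hcl]
    rw [← map_mul, map_mul ι, map_mul ι, ← mul_assoc, IsLocalization.mk'_spec]
  refine ⟨hsurj n, ?_⟩
  have hle_m : IsLocalRing.maximalIdeal L ≤ (IsLocalRing.maximalIdeal (Localization.AtPrime p)).map φ := by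
    refine Submodule.le_of_le_smul_of_le_jacobson_bot (I := IsLocalRing.maximalIdeal L) (IsNoetherian.noetherian _)
      (IsLocalRing.maximalIdeal_le_jacobson _) fun y hy => ?_
    obtain ⟨x, hx⟩ := hsurj 2 (Ideal.Quotient.mk _ y)
    have h1 : φ x - y ∈ IsLocalRing.maximalIdeal L ^ 2 := Ideal.Quotient.eq.1 hx
    have h2 : φ x ∈ IsLocalRing.maximalIdeal L := by
      have := add_mem (Ideal.pow_le_self two_ne_zero h1) hy
      rwa [sub_add_cancel] at this
    have h3 : x ∈ IsLocalRing.maximalIdeal (Localization.AtPrime p) := by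
      rwa [IsLocalRing.mem_maximalIdeal, mem_nonunits_iff, isUnit_map_iff φ] at h2
    rw [← sub_sub_cancel (φ x) y, sub_eq_add_neg]
    refine Submodule.add_mem_sup (Ideal.mem_map_of_mem φ h3) (neg_mem ?_)
    rwa [smul_eq_mul, ← pow_two]
  refine le_antisymm (fun x hx => ?_) (fun x hx => ?_)
  swap
  · rw [Ideal.mem_comap]
    refine Ideal.pow_right_mono ?_ n (Ideal.map_pow φ _ n ▸ Ideal.mem_map_of_mem φ hx)
    exact Ideal.map_le_iff_le_comap.2 fun z hz => by
      rw [Ideal.mem_comap, IsLocalRing.mem_maximalIdeal, mem_nonunits_iff, isUnit_map_iff φ]; exact hz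
  obtain ⟨⟨b, t⟩, rfl⟩ := IsLocalization.mk'_surjective p.primeCompl x
  rw [← Localization.AtPrime.map_eq_maximalIdeal, ← Ideal.map_pow, IsLocalization.mk'_mem_map_algebraMap_iff]
  have h1 : ι (Subring.inclusion hle b) ∈ ((p ^ n).map (Subring.inclusion hle)).map ι := by
    have h2 := Ideal.pow_right_mono hle_m n hx
    rw [← Ideal.map_pow, ← Localization.AtPrime.map_eq_maximalIdeal, ← Ideal.map_pow, Ideal.map_map] at h2
    have h3 := Ideal.mul_mem_right (φ (algebraMap (FixedPoints.subring R G) (Localization.AtPrime p) t)) _ h2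
    rw [← map_mul, IsLocalization.mk'_spec, hφ] at h3
    rw [Ideal.map_map]
    refine (congrArg (fun f => ι (Subring.inclusion hle b) ∈ Ideal.map f (p ^ n)) ?_).mp h3
    exact RingHom.ext hφ
  rw [IsLocalization.algebraMap_mem_map_algebraMap_iff q'.primeCompl] at h1
  obtain ⟨s, hs, hsb⟩ := h1
  obtain ⟨N, hN⟩ := hb 1
  refine ⟨trace H (s * e ^ N), fun hmem => ?_, ?_⟩
  · have h1 := sub_mem (show Subring.inclusion hle (trace H (s * e ^ N)) ∈ q' from hmem) (by simpa using hN s : _ ∈ q')
    rw [sub_sub_cancel] at h1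
    exact ((inferInstance : q'.IsPrime).mem_or_mem h1).elim hs
      fun h2 => he ((inferInstance : q'.IsPrime).mem_of_pow_mem _ h2)
  · rw [mul_comm, ← trace_mul hle]
    refine trace_mem hle _ ?_
    rw [← mul_assoc, mul_comm _ s]
    exact Ideal.mul_mem_right _ _ hsb

end DecompInvLib
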